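import Groth.Agent.Lib.RefHull.NormalAlg
import Mathlib.RingTheory.Flat.Basic
import Mathlib.LinearAlgebra.TensorProduct.Pi
import Mathlib.RingTheory.Localization.AtPrime.Basic
import Mathlib.RingTheory.Ideal.Height

/-!
Flat modules over a normal Noetherian ring extend over closed subsets of codimension two.
-/

set_option autoImplicit false

universe u v w

open scoped TensorProduct

namespace Groth.Agent.Lib.FlatHartogs

variable {R : Type u} [CommRing R] [IsNoetherianRing R]
  (hR : ∀ (P : Ideal R) [P.IsPrime], IsDomain (Localization.AtPrime P) ∧ IsIntegrallyClosed (Localization.AtPrime P))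
  {J : Type w} (g : J → R) (hg : ∀ q : Ideal R, q.IsPrime → q.height ≤ 1 → ∃ i, g i ∉ q)

include hR hg

theorem exists_ne_zero_map (P : Ideal R) [P.IsPrime] : ∃ i, algebraMap R (Localization.AtPrime P) (g i) ≠ 0 := by
  obtain ⟨_, _⟩ := hR P
  let q := Ideal.comap (algebraMap R (Localization.AtPrime P)) ⊥
  have hq : q.IsPrime := Ideal.IsPrime.comap _
  have hh : q.height ≤ 1 := by
    rw [IsLocalization.height_under P.primeCompl, Ideal.height_bot]
    exact zero_le
  obtain ⟨i, hi⟩ := hg q hq hh
  exact ⟨i, fun h => hi h⟩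

theorem exact_ring (a : J → R) (ha : ∀ i j, g j * a i = g i * a j) : ∃ r, ∀ i, a i = g i * r := by
  let 𝔞 : Ideal R :=
    { carrier := {s | ∃ r, ∀ i, s * a i = g i * r}
      zero_mem' := ⟨0, fun i => by simp⟩
      add_mem' := fun {x y} ⟨r, hr⟩ ⟨r', hr'⟩ => ⟨r + r', fun i => by rw [add_mul, hr, hr', mul_add]⟩
      smul_mem' := fun c x ⟨r, hr⟩ => ⟨c * r, fun i => by rw [smul_eq_mul, mul_assoc, hr]; ring⟩ }
  suffices h : 𝔞 = ⊤ by
    obtain ⟨r, hr⟩ := (show (1 : R) ∈ 𝔞 by rw [h]; trivial)
    exact ⟨r, fun i => by rw [← hr, one_mul]⟩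
  by_contra hne
  obtain ⟨P, hP, hle⟩ := Ideal.exists_le_maximal 𝔞 hne
  have := hP.isPrime
  obtain ⟨_, _⟩ := hR P
  let L := Localization.AtPrime P
  let K := FractionRing L
  have : IsNoetherianRing L := IsLocalization.isNoetherianRing P.primeCompl L ‹_›
  obtain ⟨i₀, hi₀⟩ := exists_ne_zero_map hR g hg P
  let ψ : R →+* K := (algebraMap L K).comp (algebraMap R L)
  have hψ : ψ (g i₀) ≠ 0 := fun h => hi₀ (IsFractionRing.injective L K (h.trans (map_zero _).symm))
  have hx : ∀ i, ψ (g i) * (ψ (a i₀) / ψ (g i₀)) = ψ (a i) := by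
    intro i
    rw [← mul_div_assoc, div_eq_iff hψ, ← map_mul, ← map_mul, ha i₀ i, mul_comm]
  obtain ⟨b, hb⟩ := RefHull.NormalAlg.mem_range_of_forall_height_one (R := L) (ψ (a i₀) / ψ (g i₀)) fun Q hQ hQ1 => by
    obtain ⟨i, hi⟩ := hg (Q.comap (algebraMap R L)) (Ideal.IsPrime.comap _)
      (by rw [IsLocalization.height_under P.primeCompl, hQ1])
    exact ⟨algebraMap R L (a i), algebraMap R L (g i), hi, hx i⟩
  obtain ⟨c, s, rfl⟩ := IsLocalization.exists_mk'_eq P.primeCompl b
  have hkill : ∀ i, algebraMap R L (s * a i) = algebraMap R L (g i * c) := by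
    intro i
    refine IsFractionRing.injective L K ?_
    have h1 : algebraMap L K (IsLocalization.mk' L c s) * ψ s = ψ c := by
      show _ * algebraMap L K (algebraMap R L s) = _
      rw [← map_mul, IsLocalization.mk'_spec]
      rfl
    show ψ (s * a i) = ψ (g i * c)
    rw [map_mul, map_mul, ← h1, hb, ← hx i]
    ring
  choose u hu using fun i => (IsLocalization.eq_iff_exists P.primeCompl L).1 (hkill i)
  -- a common element killing all differences
  let N : Ideal R := Ideal.span (Set.range fun i => (s : R) * a i - g i * c)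
  obtain ⟨T, hT⟩ : N.FG := IsNoetherian.noetherian N
  have hN : ∀ x ∈ N, ∃ w ∈ P.primeCompl, w * x = 0 := by
    intro x hx
    induction hx using Submodule.span_induction with
    | mem x hx => obtain ⟨i, rfl⟩ := hx; exact ⟨u i, (u i).2, by rw [mul_sub, hu, sub_self]⟩
    | zero => exact ⟨1, one_mem _, mul_zero _⟩
    | add x y _ _ hx hy =>
      obtain ⟨w, hw, hwx⟩ := hx
      obtain ⟨w', hw', hwy⟩ := hy
      exact ⟨w * w', mul_mem hw hw', by rw [mul_add, mul_right_comm, hwx, zero_mul, mul_assoc, hwy, mul_zero, add_zero]⟩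
    | smul r x _ hx =>
      obtain ⟨w, hw, hwx⟩ := hx
      exact ⟨w, hw, by rw [smul_eq_mul, mul_left_comm, hwx, mul_zero]⟩
  choose w hw hwx using hN
  classical
  let W := ∏ x ∈ T.attach, w x.1 (hT ▸ Submodule.subset_span x.2)
  have hW : W ∈ P.primeCompl := prod_mem fun x _ => hw _ _
  have hWN : ∀ x ∈ N, W * x = 0 := by
    rw [← hT]
    intro x hx
    induction hx using Submodule.span_induction with
    | mem x hx =>
      obtain ⟨d, hd⟩ := Finset.dvd_prod_of_mem (fun x : ↥T => w x.1 (hT ▸ Submodule.subset_span x.2))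
        (Finset.mem_attach T ⟨x, hx⟩)
      rw [show W = _ from hd, mul_right_comm, hwx, zero_mul]
    | zero => exact mul_zero _
    | add x y _ _ hx hy => rw [mul_add, hx, hy, add_zero]
    | smul r x _ hx => rw [smul_eq_mul, mul_left_comm, hx, mul_zero]
  refine (mul_mem hW s.2 : W * s ∈ P.primeCompl) (hle ⟨W * c, fun i => ?_⟩)
  have := hWN _ (Ideal.subset_span ⟨i, rfl⟩)
  rw [mul_sub, sub_eq_zero] at this
  rw [mul_assoc, this]
  ring

theorem injective_ring (r : R) (hr : ∀ i, g i * r = 0) : r = 0 := by
  suffices h : Ideal.torsionOf R R r = ⊤ by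
    simpa using (show (1 : R) ∈ Ideal.torsionOf R R r by rw [h]; trivial)
  by_contra hne
  obtain ⟨P, hP, hle⟩ := Ideal.exists_le_maximal _ hne
  have := hP.isPrime
  obtain ⟨_, _⟩ := hR P
  obtain ⟨i, hi⟩ := exists_ne_zero_map hR g hg P
  have h0 : algebraMap R (Localization.AtPrime P) r = 0 :=
    (mul_eq_zero.1 (by rw [← map_mul, hr i, map_zero])).resolve_left hi
  obtain ⟨w, hw⟩ := (IsLocalization.map_eq_zero_iff P.primeCompl _ r).1 h0
  exact w.2 (hle (by simpa [Ideal.mem_torsionOf_iff] using hw))

variable (M : Type v) [AddCommGroup M] [Module R M] [Module.Flat R M] [Finite J]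

theorem exact_flat : (∀ m : M, (∀ i, g i • m = 0) → m = 0) ∧
    ∀ a : J → M, (∀ i j, g j • a i = g i • a j) → ∃ m, ∀ i, a i = g i • m := by
  classical
  cases nonempty_fintype J
  let F : R →ₗ[R] J → R := LinearMap.pi fun i => g i • LinearMap.id
  let d : (J → R) →ₗ[R] J × J → R := LinearMap.pi fun p => g p.2 • LinearMap.proj p.1 - g p.1 • LinearMap.proj p.2
  have hinj : Function.Injective F := fun x y h => sub_eq_zero.1 (injective_ring hR g hg _ fun i => by
    have := congr_fun h i
    simp only [F, LinearMap.pi_apply, LinearMap.smul_apply, LinearMap.id_apply, smul_eq_mul] at this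
    rw [mul_sub, this, sub_self])
  have hex : Function.Exact F d := by
    intro a
    constructor
    · intro h
      obtain ⟨r, hr⟩ := exact_ring hR g hg a fun i j => by
        have := congr_fun h (i, j)
        simpa [d, sub_eq_zero] using this
      exact ⟨r, funext fun i => by simp [F, hr i]⟩
    · rintro ⟨r, rfl⟩
      funext p
      simp [F, d]; ring
  let π := fun (K : Type _) [Fintype K] [DecidableEq K] => TensorProduct.piScalarRight R R M K
  have hF : ∀ z : M ⊗[R] R, π J (F.lTensor M z) = fun i => g i • TensorProduct.rid R M z := by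
    intro z
    induction z using TensorProduct.induction_on with
    | zero => funext i; simp [π]
    | tmul m r => funext i; simp [π, F, smul_smul, mul_comm]
    | add p q hp hq => funext i; simp [map_add, hp, hq]
  have hd : ∀ z : M ⊗[R] (J → R), π (J × J) (d.lTensor M z) = fun p => g p.2 • π J z p.1 - g p.1 • π J z p.2 := by
    intro z
    induction z using TensorProduct.induction_on with
    | zero => funext i; simp [π]
    | tmul m r => funext i; simp [π, d, sub_smul, smul_smul]
    | add p q hp hq => funext i; simp [map_add, hp, hq]; abel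
  refine ⟨fun m hm => ?_, fun a ha => ?_⟩
  · have h : F.lTensor M ((TensorProduct.rid R M).symm m) = 0 :=
      (π J).injective (by rw [hF, map_zero]; funext i; simpa using hm i)
    exact (TensorProduct.rid R M).symm.injective ((Module.Flat.lTensor_preserves_injective_linearMap F hinj
      (h.trans (map_zero _).symm)).trans (map_zero _).symm)
  · obtain ⟨z, hz⟩ := (Module.Flat.lTensor_exact M hex ((π J).symm a)).1 ((π (J × J)).injective (by
      rw [hd, map_zero]; funext p; simp [ha p.1 p.2]))
    refine ⟨TensorProduct.rid R M z, fun i => ?_⟩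
    have := congr_fun (hF z) i
    rw [hz, LinearEquiv.apply_symm_apply] at this
    exact this

end Groth.Agent.Lib.FlatHartogs
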