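import Groth.Agent.Lib.FlatHartogs.Local
import Groth.Agent.Lib.Regular.UFD
import Mathlib.AlgebraicGeometry.Morphisms.Flat
import Mathlib.RingTheory.RegularLocalRing.Defs
import Mathlib.AlgebraicGeometry.Morphisms.Affine

/-!
Morphisms from flat affine schemes to affine schemes extend across closed sets along which the base
is regular of dimension at least two.
-/

set_option autoImplicit false
set_option linter.style.haveILetI false

universe u

open CategoryTheory CategoryTheory.Limits AlgebraicGeometry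

namespace Groth.Agent.Lib.FlatHartogs.Extend

noncomputable section

variable {X W : Scheme.{u}} (U : X.Opens) [QuasiCompact U.ι]
  (hZ : ∀ z : X, z ∉ U → IsRegularLocalRing (X.presheaf.stalk z) ∧ (2 : WithBot ℕ∞) ≤ ringKrullDim (X.presheaf.stalk z))

theorem exists_basicOpens (V : X.Opens) (hV : IsAffineOpen V) :
    ∃ (n : ℕ) (g : Fin n → Γ(X, V)), V ⊓ U = ⨆ i, X.basicOpen (g i) := by
  classical
  have hc : IsCompact ((V ⊓ U : X.Opens) : Set X) := by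
    have h : IsCompact (U.ι ⁻¹ᵁ V : Set U) := QuasiCompact.isCompact_preimage (f := U.ι) _ V.2 hV.isCompact
    have e : ((V ⊓ U : X.Opens) : Set X) = U.ι '' (U.ι ⁻¹ᵁ V : Set U) := by
      ext x
      constructor
      · rintro ⟨h₁, h₂⟩; exact ⟨⟨x, h₂⟩, h₁, rfl⟩
      · rintro ⟨y, hy, rfl⟩; exact ⟨hy, y.2⟩
    rw [e]
    exact h.image U.ι.continuous
  have hb : ∀ x : ((V ⊓ U : X.Opens) : Set X), ∃ f : Γ(X, V), X.basicOpen f ≤ V ⊓ U ∧ x.1 ∈ X.basicOpen f := by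
    rintro ⟨x, hx⟩
    obtain ⟨f, hf, hxf⟩ := hV.exists_basicOpen_le ⟨x, hx⟩ hx.1
    exact ⟨f, hf, hxf⟩
  choose f hf hxf using hb
  obtain ⟨t, ht⟩ := hc.elim_finite_subcover (fun x => (X.basicOpen (f x) : Set X)) (fun x => (X.basicOpen (f x)).2)
    fun x hx => Set.mem_iUnion.2 ⟨⟨x, hx⟩, hxf _⟩
  refine ⟨t.card, fun i => f (t.equivFin.symm i).1, le_antisymm (fun x hx => ?_) (iSup_le fun i => hf _)⟩
  obtain ⟨y, hy, hxy⟩ := Set.mem_iUnion₂.1 (ht hx)
  exact TopologicalSpace.Opens.mem_iSup.2 ⟨t.equivFin ⟨y, hy⟩, by simpa using hxy⟩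

include hZ in
omit [QuasiCompact U.ι] in
theorem local_conditions {V : X.Opens} (hV : IsAffineOpen V) {n : ℕ} (g : Fin n → Γ(X, V))
    (hg : V ⊓ U = ⨆ i, X.basicOpen (g i)) (P : _root_.Ideal Γ(X, V)) [P.IsPrime] (hP : ∀ i, g i ∈ P) :
    IsNoetherianRing (Localization.AtPrime P) ∧ IsDomain (Localization.AtPrime P) ∧
      IsIntegrallyClosed (Localization.AtPrime P) ∧ 2 ≤ P.height := by
  let x : X := hV.fromSpec ⟨P, inferInstance⟩
  have hxV : x ∈ V := by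
    rw [← SetLike.mem_coe, ← hV.range_fromSpec]
    exact ⟨_, rfl⟩
  have hx : x ∉ U := by
    intro hxU
    have hxVU : x ∈ V ⊓ U := ⟨hxV, hxU⟩
    rw [hg] at hxVU
    obtain ⟨i, hi⟩ := TopologicalSpace.Opens.mem_iSup.1 hxVU
    rw [← hV.fromSpec_image_basicOpen (g i)] at hi
    obtain ⟨y, hy, hye⟩ := hi
    rw [(hV.fromSpec.isOpenEmbedding.injective hye)] at hy
    exact hy (hP i)
  obtain ⟨hreg, hdim⟩ := hZ x hx
  let _ : Algebra Γ(X, V) (X.presheaf.stalk x) := TopCat.Presheaf.algebra_section_stalk X.presheaf ⟨x, hxV⟩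
  have hloc : IsLocalization.AtPrime (X.presheaf.stalk x) P :=
    hV.isLocalization_stalk' ⟨P, inferInstance⟩ hxV
  have hreg' := IsRegularLocalRing.of_ringEquiv
    (IsLocalization.algEquiv P.primeCompl (X.presheaf.stalk x) (Localization.AtPrime P)).toRingEquiv
  have hh : ringKrullDim (X.presheaf.stalk x) = P.height :=
    IsLocalization.AtPrime.ringKrullDim_eq_height P (X.presheaf.stalk x)
  rw [hh] at hdim
  have := hreg'
  exact ⟨inferInstance, Regular.Quotient.isDomain _, Regular.UFD.isIntegrallyClosed _,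
    WithBot.coe_le_coe.mp hdim⟩

variable (p : W ⟶ X) [IsAffineHom p] [Flat p]

/-- The structure of the functions on the preimage of an affine open. -/
theorem section_facts (V : X.Opens) (hV : IsAffineOpen V) :
    (p.app V).hom.Flat :=
  Scheme.Hom.app_eq_appLE p (U := V) ▸ p.flat_appLE hV (hV.preimage p) le_rfl

omit [Flat p] in
theorem away_data (V : X.Opens) (hV : IsAffineOpen V) (a : Γ(X, V)) :
    (∀ m : Γ(W, p ⁻¹ᵁ V), W.presheaf.map (homOfLE (W.basicOpen_le (p.app V a))).op m = 0 →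
      ∃ n : ℕ, p.app V a ^ n * m = 0) ∧
    ∀ s : Γ(W, W.basicOpen (p.app V a)), ∃ (n : ℕ) (m : Γ(W, p ⁻¹ᵁ V)),
      W.presheaf.map (homOfLE (W.basicOpen_le (p.app V a))).op (p.app V a) ^ n * s =
        W.presheaf.map (homOfLE (W.basicOpen_le (p.app V a))).op m := by
  have hl := (hV.preimage p).isLocalization_basicOpen (p.app V a)
  constructor
  · intro m hm
    obtain ⟨⟨_, n, rfl⟩, hn⟩ := (IsLocalization.map_eq_zero_iff (Submonoid.powers (p.app V a))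
      (Γ(W, W.basicOpen (p.app V a))) m).1 hm
    exact ⟨n, hn⟩
  · intro s
    obtain ⟨n, m, hm⟩ := IsLocalization.Away.surj (p.app V a) s
    exact ⟨n, m, by rw [mul_comm]; exact hm⟩

include hZ in
/-- Sections of a flat affine scheme over `X` extend across the complement of `U`. -/
theorem bijective_restrict (V : X.Opens) (hV : IsAffineOpen V) :
    Function.Bijective (W.presheaf.map (homOfLE (p.preimage_mono (inf_le_left : V ⊓ U ≤ V))).op) := by
  classical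
  obtain ⟨n, g, hg⟩ := exists_basicOpens U V hV
  let A := Γ(X, V)
  let M := Γ(W, p ⁻¹ᵁ V)
  letI : Algebra A M := (p.app V).hom.toAlgebra
  have hflat : Module.Flat A M := section_facts p V hV
  let G : Fin n → M := fun i => p.app V (g i)
  have hB : ∀ i, W.basicOpen (G i) = p ⁻¹ᵁ X.basicOpen (g i) := fun i => (Scheme.preimage_basicOpen p (g i)).symm
  have hO : p ⁻¹ᵁ (V ⊓ U) = ⨆ i, W.basicOpen (G i) := by
    rw [hg, Scheme.Hom.preimage_iSup]
    exact iSup_congr fun i => (hB i).symm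
  let O : W.Opens := p ⁻¹ᵁ (V ⊓ U)
  have hleO : ∀ i, W.basicOpen (G i) ≤ O := fun i => by rw [show O = _ from hO]; exact le_iSup (fun i => W.basicOpen (G i)) i
  let res : ∀ {O₁ O₂ : W.Opens}, O₁ ≤ O₂ → Γ(W, O₂) → Γ(W, O₁) := fun h z => W.presheaf.map (homOfLE h).op z
  have resres : ∀ {O₁ O₂ O₃ : W.Opens} (h : O₁ ≤ O₂) (h' : O₂ ≤ O₃) (z : Γ(W, O₃)),
      res h (res h' z) = res (h.trans h') z := by
    intro O₁ O₂ O₃ h h' z
    show (W.presheaf.map _ ≫ W.presheaf.map _) z = _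
    rw [← Functor.map_comp]
    rfl
  have hle : O ≤ p ⁻¹ᵁ V := p.preimage_mono inf_le_left
  have hext : ∀ x y : Γ(W, O), (∀ i, res (hleO i) x = res (hleO i) y) → x = y := fun x y h =>
    TopCat.Sheaf.eq_of_locally_eq' W.sheaf (fun i => W.basicOpen (G i)) O (fun i => homOfLE (hleO i))
      (by rw [show O = _ from hO]) x y h
  have hR : ∀ (N : ℕ) (P : _root_.Ideal A) [P.IsPrime], (∀ i, g i ^ N ∈ P) →
      IsNoetherianRing (Localization.AtPrime P) ∧ IsDomain (Localization.AtPrime P) ∧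
        IsIntegrallyClosed (Localization.AtPrime P) ∧ 2 ≤ P.height := fun N P hP h =>
    local_conditions U hZ hV g hg P fun i => hP.mem_of_pow_mem N (h i)
  have hsmul : ∀ (N : ℕ) i (m : M), (g i ^ N) • m = G i ^ N * m := fun N i m => by
    show p.app V (g i ^ N) * m = _
    rw [map_pow]
  constructor
  · refine (injective_iff_map_eq_zero _).2 fun m hm => ?_
    have hm' : res hle m = 0 := hm
    choose e he using fun i => (away_data p V hV (g i)).1 m (by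
      show res _ m = 0
      rw [← resres (hleO i) hle, hm']
      exact map_zero _)
    refine (Local.exact_flat (fun i => g i ^ (∑ i, e i)) (hR _) M).1 m fun i => ?_
    rw [hsmul, ← Nat.sub_add_cancel (Finset.single_le_sum (fun i _ => Nat.zero_le (e i)) (Finset.mem_univ i)), pow_add,
      mul_assoc, show G i ^ e i * m = 0 from he i, mul_zero]
  · intro s
    choose e m hm using fun i => (away_data p V hV (g i)).2 (res (hleO i) s)
    let E := ∑ i, e i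
    let m' : Fin n → M := fun i => G i ^ (E - e i) * m i
    have hm' : ∀ i, res (W.basicOpen_le (G i)) (G i) ^ E * res (hleO i) s = res (W.basicOpen_le (G i)) (m' i) := by
      intro i
      show _ = W.presheaf.map _ (G i ^ (E - e i) * m i)
      rw [map_mul, map_pow, ← hm i, ← mul_assoc, ← pow_add,
        Nat.sub_add_cancel (Finset.single_le_sum (fun i _ => Nat.zero_le (e i)) (Finset.mem_univ i))]
    have hcomm : ∀ i j, ∃ N : ℕ, (G i * G j) ^ N * (G j ^ E * m' i - G i ^ E * m' j) = 0 := by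
      intro i j
      have hle₂ : W.basicOpen (p.app V (g i * g j)) ≤ p ⁻¹ᵁ V := W.basicOpen_le _
      have hBij : W.basicOpen (p.app V (g i * g j)) ≤ W.basicOpen (G i) ⊓ W.basicOpen (G j) := by
        rw [map_mul, Scheme.basicOpen_mul]
      let D := W.basicOpen (p.app V (g i * g j))
      obtain ⟨N, hN⟩ := (away_data p V hV (g i * g j)).1 (G j ^ E * m' i - G i ^ E * m' j) (by
        have hi := congrArg (res (O₁ := D) (hBij.trans inf_le_left)) (hm' i)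
        have hj := congrArg (res (O₁ := D) (hBij.trans inf_le_right)) (hm' j)
        simp only [res, map_mul, map_pow] at hi hj ⊢
        simp only [map_sub, map_mul, map_pow]
        simp only [← ConcreteCategory.comp_apply, ← Functor.map_comp, ← op_comp, homOfLE_comp] at hi hj ⊢
        rw [← hi, ← hj]
        ring)
      exact ⟨N, by rw [map_mul] at hN; exact hN⟩
    choose N hN using hcomm
    let T := ∑ q : Fin n × Fin n, N q.1 q.2
    obtain ⟨r, hr⟩ := (Local.exact_flat (fun i => g i ^ (E + T)) (hR _) M).2 (fun i => G i ^ T * m' i) fun i j => by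
      rw [hsmul, hsmul]
      have h := hN i j
      have hT : N i j ≤ T := Finset.single_le_sum (f := fun q : Fin n × Fin n => N q.1 q.2)
        (fun q _ => Nat.zero_le _) (Finset.mem_univ (i, j))
      obtain ⟨d, hd⟩ := Nat.le.dest hT
      simp only [← hd, pow_add]
      linear_combination (G i ^ d * G j ^ d) * h
    refine ⟨r, hext _ _ fun i => ?_⟩
    show res (hleO i) (res hle r) = res (hleO i) s
    rw [resres]
    have hunit : IsUnit (res (W.basicOpen_le (G i)) (G i)) :=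
      RingedSpace.isUnit_res_basicOpen W.toSheafedSpace (G i)
    refine (hunit.pow (E + T)).mul_left_cancel ?_
    have h := congrArg (res (W.basicOpen_le (G i))) (hr i)
    rw [hsmul] at h
    simp only [res, map_mul, map_pow] at h ⊢
    rw [← h, pow_add, mul_comm (_ ^ E) (_ ^ T), mul_assoc]
    exact congrArg _ (hm' i).symm

include hZ in
theorem bijective_comp {V : X.Opens} (hV : IsAffineOpen V) (T : Scheme.{u}) [IsAffine T] :
    Function.Bijective fun b : ((p ⁻¹ᵁ V : W.Opens) : Scheme.{u}) ⟶ T =>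
      W.homOfLE (p.preimage_mono (inf_le_left : V ⊓ U ≤ V)) ≫ b := by
  set j := W.homOfLE (p.preimage_mono (inf_le_left : V ⊓ U ≤ V))
  have hj : IsIso j.appTop := by
    have hb := bijective_restrict U hZ p V hV
    have : IsIso (W.presheaf.map (homOfLE (p.preimage_mono (inf_le_left : V ⊓ U ≤ V))).op) :=
      (ConcreteCategory.isIso_iff_bijective _).2 hb
    rw [Scheme.homOfLE_appTop]
    have aux : ∀ (O₁ O₂ : W.Opens) (h : O₁ ≤ O₂), O₁ = p ⁻¹ᵁ (V ⊓ U) → O₂ = p ⁻¹ᵁ V →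
        IsIso (W.presheaf.map (homOfLE h).op) := by
      rintro _ _ h rfl rfl
      exact this
    exact aux _ _ _ (Scheme.Opens.ι_image_top _) (Scheme.Opens.ι_image_top _)
  constructor
  · intro a b hab
    refine ext_of_isAffine ?_
    have h : a.appTop ≫ j.appTop = b.appTop ≫ j.appTop := by
      rw [← Scheme.Hom.comp_appTop, ← Scheme.Hom.comp_appTop]
      exact congrArg (fun f => Scheme.Hom.appTop f) hab
    exact (cancel_mono _).1 h
  · intro a
    refine ⟨((p ⁻¹ᵁ V : W.Opens) : Scheme.{u}).toSpecΓ ≫ Spec.map (a.appTop ≫ inv j.appTop) ≫ T.isoSpec.inv, ?_⟩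
    show j ≫ _ = a
    rw [Scheme.toSpecΓ_naturality_assoc, ← Spec.map_comp_assoc, Category.assoc, IsIso.inv_hom_id, Category.comp_id,
      ← Scheme.toSpecΓ_naturality_assoc, Scheme.toSpecΓ_isoSpec_inv, Category.comp_id]

variable {Y : Scheme.{u}} (q : Y ⟶ X) [IsAffineHom q]

include hZ in
theorem eq_of_restrict {V : X.Opens} (hV : IsAffineOpen V) (a b : ((p ⁻¹ᵁ V : W.Opens) : Scheme.{u}) ⟶ Y)
    (ha : a ≫ q = (p ⁻¹ᵁ V).ι ≫ p) (hb : b ≫ q = (p ⁻¹ᵁ V).ι ≫ p)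
    (h : W.homOfLE (p.preimage_mono (inf_le_left : V ⊓ U ≤ V)) ≫ a =
      W.homOfLE (p.preimage_mono (inf_le_left : V ⊓ U ≤ V)) ≫ b) : a = b := by
  have hr : ∀ c : ((p ⁻¹ᵁ V : W.Opens) : Scheme.{u}) ⟶ Y, c ≫ q = (p ⁻¹ᵁ V).ι ≫ p →
      Set.range c ⊆ Set.range (q ⁻¹ᵁ V).ι := by
    intro c hc
    rintro _ ⟨y, rfl⟩
    rw [Scheme.Opens.range_ι]
    have e := congrArg (fun f : ((p ⁻¹ᵁ V : W.Opens) : Scheme.{u}) ⟶ X => f y) hc
    simp only [Scheme.Hom.comp_apply] at e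
    show q (c y) ∈ V
    rw [e]
    exact y.2
  have : IsAffine ((q ⁻¹ᵁ V : Y.Opens) : Scheme.{u}) := hV.preimage q
  have key : IsOpenImmersion.lift (q ⁻¹ᵁ V).ι a (hr a ha) = IsOpenImmersion.lift (q ⁻¹ᵁ V).ι b (hr b hb) := by
    refine (bijective_comp U hZ p hV _).1 ((cancel_mono (q ⁻¹ᵁ V).ι).1 ?_)
    simpa only [Category.assoc, IsOpenImmersion.lift_fac] using h
  simpa only [IsOpenImmersion.lift_fac] using congrArg (· ≫ (q ⁻¹ᵁ V).ι) key

include hZ in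
theorem exists_extend_local {V : X.Opens} (hV : IsAffineOpen V)
    (k₀ : ((p ⁻¹ᵁ U : W.Opens) : Scheme.{u}) ⟶ Y) (hk₀ : k₀ ≫ q = (p ⁻¹ᵁ U).ι ≫ p) :
    ∃ a : ((p ⁻¹ᵁ V : W.Opens) : Scheme.{u}) ⟶ Y, a ≫ q = (p ⁻¹ᵁ V).ι ≫ p ∧
      W.homOfLE (p.preimage_mono (inf_le_left : V ⊓ U ≤ V)) ≫ a =
        W.homOfLE (p.preimage_mono (inf_le_right : V ⊓ U ≤ U)) ≫ k₀ := by
  set j := W.homOfLE (p.preimage_mono (inf_le_left : V ⊓ U ≤ V))
  set c := W.homOfLE (p.preimage_mono (inf_le_right : V ⊓ U ≤ U)) ≫ k₀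
  have hc : c ≫ q = j ≫ (p ⁻¹ᵁ V).ι ≫ p := by
    simp only [c, j, Category.assoc, hk₀, Scheme.homOfLE_ι_assoc]
  have hr : Set.range c ⊆ Set.range (q ⁻¹ᵁ V).ι := by
    rintro _ ⟨y, rfl⟩
    rw [Scheme.Opens.range_ι]
    have e := congrArg (fun f : ((p ⁻¹ᵁ (V ⊓ U) : W.Opens) : Scheme.{u}) ⟶ X => f y) hc
    simp only [Scheme.Hom.comp_apply] at e
    show q (c y) ∈ V
    rw [e]
    exact (j y).2
  have : IsAffine ((q ⁻¹ᵁ V : Y.Opens) : Scheme.{u}) := hV.preimage q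
  have : IsAffine (V : Scheme.{u}) := hV
  obtain ⟨b, hb⟩ := (bijective_comp U hZ p hV _).2 (IsOpenImmersion.lift (q ⁻¹ᵁ V).ι c hr)
  have hb' : j ≫ b = IsOpenImmersion.lift (q ⁻¹ᵁ V).ι c hr := hb
  have hac : j ≫ b ≫ (q ⁻¹ᵁ V).ι = c := by
    rw [← Category.assoc, hb', IsOpenImmersion.lift_fac]
  refine ⟨b ≫ (q ⁻¹ᵁ V).ι, ?_, hac⟩
  have key : b ≫ q ∣_ V = p ∣_ V := by
    refine (bijective_comp U hZ p hV _).1 ((cancel_mono V.ι).1 ?_)
    show (j ≫ b ≫ q ∣_ V) ≫ V.ι = (j ≫ p ∣_ V) ≫ V.ι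
    simp only [Category.assoc, morphismRestrict_ι]
    rw [← hc]
    simp only [← Category.assoc]
    rw [Category.assoc j b, hac]
  rw [Category.assoc, ← morphismRestrict_ι, reassoc_of% key, morphismRestrict_ι]

include hZ in
theorem existsUnique_extend (k₀ : ((p ⁻¹ᵁ U : W.Opens) : Scheme.{u}) ⟶ Y)
    (hk₀ : k₀ ≫ q = (p ⁻¹ᵁ U).ι ≫ p) :
    ∃! k : W ⟶ Y, k ≫ q = p ∧ (p ⁻¹ᵁ U).ι ≫ k = k₀ := by
  have hcover : TopologicalSpace.IsOpenCover fun V : X.affineOpens => p ⁻¹ᵁ (V : X.Opens) := by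
    refine TopologicalSpace.Opens.ext (Set.eq_univ_of_forall fun w => ?_)
    obtain ⟨V, hV, hw, -⟩ := exists_isAffineOpen_mem_and_subset (show p w ∈ (⊤ : X.Opens) from trivial)
    exact TopologicalSpace.Opens.mem_iSup.2 ⟨⟨V, hV⟩, hw⟩
  let 𝒰 : W.OpenCover := W.openCoverOfIsOpenCover _ hcover
  choose g hg hgU using fun V : X.affineOpens => exists_extend_local U hZ p q V.2 k₀ hk₀
  have hsub : ∀ (V' V : X.affineOpens) (h : (V' : X.Opens) ≤ V),
      W.homOfLE (p.preimage_mono h) ≫ g V = g V' := by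
    intro V' V h
    refine eq_of_restrict U hZ p q V'.2 _ _ ?_ (hg V') ?_
    · rw [Category.assoc, hg V, Scheme.homOfLE_ι_assoc]
    · rw [hgU V', ← Category.assoc, Scheme.homOfLE_homOfLE,
        ← Scheme.homOfLE_homOfLE W (p.preimage_mono (inf_le_inf_right U h)) (p.preimage_mono inf_le_left),
        Category.assoc, hgU V, ← Category.assoc, Scheme.homOfLE_homOfLE]
  have hf : ∀ i j : X.affineOpens, pullback.fst (𝒰.f i) (𝒰.f j) ≫ g i = pullback.snd (𝒰.f i) (𝒰.f j) ≫ g j := by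
    intro i j
    show pullback.fst (p ⁻¹ᵁ (i : X.Opens)).ι (p ⁻¹ᵁ (j : X.Opens)).ι ≫ g i =
      pullback.snd (p ⁻¹ᵁ (i : X.Opens)).ι (p ⁻¹ᵁ (j : X.Opens)).ι ≫ g j
    refine Scheme.hom_ext_of_forall _ _ fun x => ?_
    let t : pullback (p ⁻¹ᵁ (i : X.Opens)).ι (p ⁻¹ᵁ (j : X.Opens)).ι ⟶ W := pullback.fst _ _ ≫ (p ⁻¹ᵁ (i : X.Opens)).ι
    have ht : t = pullback.snd _ _ ≫ (p ⁻¹ᵁ (j : X.Opens)).ι := pullback.condition
    have hxi : p (t x) ∈ (i : X.Opens) := (pullback.fst (p ⁻¹ᵁ (i : X.Opens)).ι (p ⁻¹ᵁ (j : X.Opens)).ι x).2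
    have hxj : p (t x) ∈ (j : X.Opens) := by rw [ht]; exact (pullback.snd (p ⁻¹ᵁ (i : X.Opens)).ι (p ⁻¹ᵁ (j : X.Opens)).ι x).2
    obtain ⟨V', hV', hxV', hle⟩ := exists_isAffineOpen_mem_and_subset
      (show p (t x) ∈ ((i : X.Opens) ⊓ (j : X.Opens)) from ⟨hxi, hxj⟩)
    refine ⟨t ⁻¹ᵁ (p ⁻¹ᵁ V'), hxV', ?_⟩
    let l := t ∣_ (p ⁻¹ᵁ V')
    have e₁ : (t ⁻¹ᵁ (p ⁻¹ᵁ V')).ι ≫ pullback.fst (p ⁻¹ᵁ (i : X.Opens)).ι (p ⁻¹ᵁ (j : X.Opens)).ι =
        l ≫ W.homOfLE (p.preimage_mono (hle.trans inf_le_left)) := by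
      rw [← cancel_mono (p ⁻¹ᵁ (i : X.Opens)).ι, Category.assoc, Category.assoc, Scheme.homOfLE_ι]
      exact (morphismRestrict_ι t (p ⁻¹ᵁ V')).symm
    have e₂ : (t ⁻¹ᵁ (p ⁻¹ᵁ V')).ι ≫ pullback.snd (p ⁻¹ᵁ (i : X.Opens)).ι (p ⁻¹ᵁ (j : X.Opens)).ι =
        l ≫ W.homOfLE (p.preimage_mono (hle.trans inf_le_right)) := by
      rw [← cancel_mono (p ⁻¹ᵁ (j : X.Opens)).ι, Category.assoc, Category.assoc, Scheme.homOfLE_ι, ← ht]
      exact (morphismRestrict_ι t (p ⁻¹ᵁ V')).symm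
    rw [← Category.assoc, e₁, ← Category.assoc, e₂, Category.assoc, Category.assoc,
      hsub ⟨V', hV'⟩ i (hle.trans inf_le_left), hsub ⟨V', hV'⟩ j (hle.trans inf_le_right)]
  let k : W ⟶ Y := 𝒰.glueMorphisms g hf
  have hk : ∀ V : X.affineOpens, (p ⁻¹ᵁ (V : X.Opens)).ι ≫ k = g V := 𝒰.ι_glueMorphisms g hf
  refine ⟨k, ⟨?_, ?_⟩, ?_⟩
  · refine 𝒰.hom_ext _ _ fun (V : X.affineOpens) => ?_
    show (p ⁻¹ᵁ (V : X.Opens)).ι ≫ k ≫ q = (p ⁻¹ᵁ (V : X.Opens)).ι ≫ p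
    rw [← Category.assoc, hk, hg]
  · refine Scheme.hom_ext_of_forall _ _ fun x => ?_
    obtain ⟨V, hV, hxV, hle⟩ := exists_isAffineOpen_mem_and_subset (show p x.1 ∈ U from x.2)
    refine ⟨(p ⁻¹ᵁ U).ι ⁻¹ᵁ (p ⁻¹ᵁ V), hxV, ?_⟩
    have e₁ : ((p ⁻¹ᵁ U).ι ⁻¹ᵁ (p ⁻¹ᵁ V)).ι =
        ((p ⁻¹ᵁ U).ι ∣_ (p ⁻¹ᵁ V)) ≫ W.homOfLE (p.preimage_mono (le_inf le_rfl hle)) ≫
          W.homOfLE (p.preimage_mono (inf_le_right : V ⊓ U ≤ U)) := by
      rw [← cancel_mono (p ⁻¹ᵁ U).ι]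
      simp only [Category.assoc, Scheme.homOfLE_ι, morphismRestrict_ι]
    conv_rhs => rw [e₁, Category.assoc, Category.assoc, ← hgU ⟨V, hV⟩, Scheme.homOfLE_homOfLE_assoc,
      Scheme.homOfLE_rfl, Category.id_comp]
    rw [← hk ⟨V, hV⟩, ← morphismRestrict_ι_assoc]
  · rintro k' ⟨hk₁, hk₂⟩
    refine 𝒰.hom_ext _ _ fun (V : X.affineOpens) => ?_
    show (p ⁻¹ᵁ (V : X.Opens)).ι ≫ k' = (p ⁻¹ᵁ (V : X.Opens)).ι ≫ k
    refine eq_of_restrict U hZ p q V.2 _ _ (by rw [Category.assoc, hk₁]) (by rw [hk, hg]) ?_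
    rw [hk, hgU, ← hk₂]
    simp only [Scheme.homOfLE_ι_assoc]

end

end Groth.Agent.Lib.FlatHartogs.Extend
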